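import Mathlib
import Cfsg.Agent.LargeExtra.Nine.UTree

/-!
# S1763 case I: the enumeration of the lines of type U on codes (helper71)

Everything is about natural numbers `< 256` (codes of vectors of `F₂^8`) and lists of eight codes (matrices).
Main theorem `enum_codes`: the set of U-lines consists of the 45 lines of `N₀ = U₄(2)`, or of these and one of the
three orbits of 270 lines.
-/

set_option autoImplicit false

namespace Cfsg.Agent.LargeExtra.Nine.UCode

open UTree

/-- image of a code under a matrix (list of the images of the basis) -/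
def apc : List Nat → Nat → Nat
  | [], _ => 0
  | a :: L, v => Nat.xor (cond (Nat.testBit v 0) a 0) (apc L (v / 2))

/-- product: first `M`, then `L` -/
def comp (L M : List Nat) : List Nat := M.map (apc L)

def qc (v : Nat) : Bool :=
  xor (xor (Nat.testBit v 0 && Nat.testBit v 4) (Nat.testBit v 1 && Nat.testBit v 5))
    (xor (Nat.testBit v 2 && Nat.testBit v 6) (Nat.testBit v 3 && Nat.testBit v 7))

def bc (u v : Nat) : Bool := xor (qc (Nat.xor u v)) (xor (qc u) (qc v))

/-- the Siegel element of the line `⟨u, v⟩` -/
def sgc (u v : Nat) : List Nat :=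
  [1, 2, 4, 8, 16, 32, 64, 128].map fun x =>
    Nat.xor x (Nat.xor (cond (bc x u) v 0) (cond (bc x v) u 0))

/-- canonical basis of a line -/
def cl (u v : Nat) : Nat × Nat :=
  let w := Nat.xor u v
  if u < v then (if v < w then (u, v) else if u < w then (u, w) else (w, u))
  else (if u < w then (v, u) else if v < w then (v, w) else (w, v))

/-- `(u, v)` is a canonical basis of a totally singular line -/
def isLine (u v : Nat) : Bool :=
  (decide (0 < u) && decide (u < v)) && (decide (v < Nat.xor u v) && (!qc u && (!qc v && !bc u v)))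

/-- check of one entry -/
def chk1 (A : List (Nat × Nat × Nat × Nat × Nat)) (e : Nat × Nat × Nat × Nat × Nat) : Bool :=
  let g := genN.getD e.2.2.1 []
  (decide (e.2.2.1 < genN.length) &&
    A.any (fun a => a.1 == e.2.2.2.1 && a.2.1 == e.2.2.2.2)) &&
  (cl (apc g e.1) (apc g e.2.1) == (e.2.2.2.1, e.2.2.2.2) &&
    cl (apc g e.2.2.2.1) (apc g e.2.2.2.2) == (e.1, e.2.1))

/-- check of a tree -/
def chk : List (List (Nat × Nat × Nat × Nat × Nat)) → Bool
  | [] => true
  | [_] => true
  | A :: B :: T => B.all (chk1 A) && chk (B :: T)

theorem chk_T45 : chk T45 = true := by decide +kernel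
theorem chk_TA4 : chk TA4 = true := by decide +kernel
theorem chk_TA8 : chk TA8 = true := by decide +kernel
theorem chk_TA12 : chk TA12 = true := by decide +kernel
theorem chk_TB : chk TB = true := by decide +kernel

/-- keys of all entries of a tree -/
def keys (T : List (List (Nat × Nat × Nat × Nat × Nat))) : List Nat :=
  T.flatten.map fun e => 256 * e.1 + e.2.1

def maskOf : List Nat → Nat
  | [] => 0
  | k :: L => Nat.lor (Nat.shiftLeft 1 k) (maskOf L)

theorem mask_eq : maskOf (keys T45 ++ keys TA4 ++ keys TA8 ++ keys TA12 ++ keys TB) = maskAll := by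
  decide +kernel

/-- the codes of the nonsingular vectors, as a mask -/
def qMask : Nat := 47759223636507730209801550344371119078934783318887441289834004656231277002752

theorem qc_eq : ∀ v < 256, qc v = Nat.testBit qMask v := by decide +kernel

/-- `isLine` with the mask -/
def isLn (u v : Nat) : Bool :=
  cond (Nat.blt 0 u) (cond (Nat.blt u v) (cond (Nat.blt v (Nat.xor u v)) (cond (Nat.testBit qMask u) false
    (cond (Nat.testBit qMask v) false (cond (Nat.testBit qMask (Nat.xor u v)) false true))) false) false) false

theorem isLn_of {u v : Nat} (hu : u < 256) (hv : v < 256) (h : isLine u v = true) : isLn u v = true := by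
  have hw : Nat.xor u v < 256 := Nat.xor_lt_two_pow (n := 8) hu hv
  simp only [isLine, bc, Bool.and_eq_true, decide_eq_true_eq, Bool.not_eq_true'] at h
  obtain ⟨⟨h1, h2⟩, h3, h4, h5, h6⟩ := h
  rw [h4, h5] at h6
  simp only [Bool.xor_false] at h6
  rw [qc_eq _ hu] at h4
  rw [qc_eq _ hv] at h5
  rw [qc_eq _ hw] at h6
  unfold isLn
  rw [h4, h5, h6, Nat.blt_eq.mpr h1, Nat.blt_eq.mpr h2, Nat.blt_eq.mpr h3]
  rfl

/-- the check for one `u` -/
noncomputable def ckv (u n : Nat) : Bool :=
  Nat.rec true (fun v ih => cond (cond (isLn u v) (Nat.testBit maskAll (256 * u + v)) true) ih false) n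

theorem ckv_spec {u : Nat} : ∀ {n : Nat}, ckv u n = true → ∀ v < n, isLn u v = true →
    Nat.testBit maskAll (256 * u + v) = true := by
  intro n
  induction n with
  | zero => intro _ v hv; exact absurd hv (Nat.not_lt_zero v)
  | succ n ih =>
    intro h v hv hl
    change cond (cond (isLn u n) (Nat.testBit maskAll (256 * u + n)) true) (ckv u n) false = true at h
    rcases Nat.lt_succ_iff_lt_or_eq.1 hv with h1 | rfl
    · cases h2 : cond (isLn u n) (Nat.testBit maskAll (256 * u + n)) true
      · rw [h2] at h; exact absurd h Bool.false_ne_true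
      · rw [h2] at h; exact ih h v h1 hl
    · rw [hl] at h
      cases h2 : Nat.testBit maskAll (256 * u + v)
      · rw [h2] at h; exact absurd h Bool.false_ne_true
      · rfl

/-- the check for `a ≤ u < a + n` -/
noncomputable def cku (a n : Nat) : Bool :=
  Nat.rec true (fun k ih => cond (ckv (a + k) 256) ih false) n

theorem cku_spec {a : Nat} : ∀ {n : Nat}, cku a n = true → ∀ k < n, ckv (a + k) 256 = true := by
  intro n
  induction n with
  | zero => intro _ v hv; exact absurd hv (Nat.not_lt_zero v)
  | succ n ih =>
    intro h v hv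
    change cond (ckv (a + n) 256) (cku a n) false = true at h
    rcases Nat.lt_succ_iff_lt_or_eq.1 hv with h1 | rfl
    · cases h2 : ckv (a + n) 256
      · rw [h2] at h; exact absurd h Bool.false_ne_true
      · rw [h2] at h; exact ih h v h1
    · cases h2 : ckv (a + v) 256
      · rw [h2] at h; exact absurd h Bool.false_ne_true
      · rfl

theorem cover_0 : cku 0 64 = true := by decide +kernel
theorem cover_1 : cku 64 64 = true := by decide +kernel
theorem cover_2 : cku 128 64 = true := by decide +kernel
theorem cover_3 : cku 192 64 = true := by decide +kernel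

theorem cover : ∀ u < 256, ∀ v < 256, isLine u v = true → Nat.testBit maskAll (256 * u + v) = true := by
  intro u hu v hv h
  refine ckv_spec ?_ v hv (isLn_of hu hv h)
  rcases (by omega : u < 64 ∨ (64 ≤ u ∧ u < 128) ∨ (128 ≤ u ∧ u < 192) ∨ 192 ≤ u) with h1 | h1 | h1 | h1
  · have h2 := cku_spec cover_0 u h1
    rwa [Nat.zero_add] at h2
  · have h2 := cku_spec cover_1 (u - 64) (by omega)
    rwa [show 64 + (u - 64) = u by omega] at h2
  · have h2 := cku_spec cover_2 (u - 128) (by omega)
    rwa [show 128 + (u - 128) = u by omega] at h2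
  · have h2 := cku_spec cover_3 (u - 192) (by omega)
    rwa [show 192 + (u - 192) = u by omega] at h2

end Cfsg.Agent.LargeExtra.Nine.UCode
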